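import Mathlib
import Cfsg.Agent.Prune
set_option linter.all false
prune_inst 0x7f00000000000000000000000000000000000000000000000000000000000000000000000000000000000000000000000000000000000000000000000000000000000000000000000000000000000000003fffffffffffffffffffffffffffbeffbdffffffff
open scoped Cfsg.Agent.FastGrp

/-!
# The Livingstone–Wagner inequality for the numbers of orbits on subsets (helper386, for S3513)
-/

set_option autoImplicit false

namespace Cfsg.Agent.H386.S3513LW

open Finset MulAction
open scoped Pointwise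

variable {α : Type*} [Fintype α] [DecidableEq α]

theorem sum_swap (F : Finset α → α → ℝ) :
    ∑ T : Finset α, ∑ a ∈ T, F T a = ∑ A : Finset α, ∑ a ∈ Aᶜ, F (insert a A) a := by
  rw [Finset.sum_sigma', Finset.sum_sigma']
  refine Finset.sum_nbij' (fun x => ⟨x.1.erase x.2, x.2⟩) (fun x => ⟨insert x.2 x.1, x.2⟩) ?_ ?_ ?_ ?_ ?_
  · rintro ⟨T, a⟩ h
    simp
  · rintro ⟨A, a⟩ h
    simp
  · rintro ⟨T, a⟩ h
    simp only [mem_sigma, mem_univ, true_and] at h
    simp [insert_erase h]
  · rintro ⟨A, a⟩ h
    simp only [mem_sigma, mem_univ, true_and, mem_compl] at h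
    simp [erase_insert h]
  · rintro ⟨T, a⟩ h
    simp only [mem_sigma, mem_univ, true_and] at h
    simp [insert_erase h]

/-- the map to larger sets -/
def U (f : Finset α → ℝ) (T : Finset α) : ℝ := ∑ a ∈ T, f (T.erase a)

/-- the map to smaller sets -/
def D (f : Finset α → ℝ) (S : Finset α) : ℝ := ∑ a ∈ Sᶜ, f (insert a S)

theorem norm_U (f : Finset α → ℝ) : ∑ T : Finset α, U f T ^ 2 =
    ∑ A : Finset α, ∑ a ∈ Aᶜ, (f A ^ 2 + ∑ b ∈ A, f A * f (insert a (A.erase b))) := by
  have h1 : ∀ T : Finset α, U f T ^ 2 = ∑ a ∈ T, f (T.erase a) * U f T := by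
    intro T
    rw [sq, ← Finset.sum_mul]; rfl
  simp_rw [h1]
  rw [sum_swap]
  refine Finset.sum_congr rfl fun A _ => Finset.sum_congr rfl fun a ha => ?_
  rw [mem_compl] at ha
  rw [erase_insert ha]
  unfold U
  rw [sum_insert ha, erase_insert ha, mul_add, ← sq, Finset.mul_sum]
  congr 1
  refine Finset.sum_congr rfl fun b hb => ?_
  rw [erase_insert_of_ne]
  rintro rfl
  exact ha hb

theorem norm_D (f : Finset α → ℝ) : ∑ S : Finset α, D f S ^ 2 =
    ∑ A : Finset α, ∑ b ∈ A, (f A ^ 2 + ∑ a ∈ Aᶜ, f A * f (insert a (A.erase b))) := by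
  have h1 : ∀ S : Finset α, D f S ^ 2 = ∑ b ∈ Sᶜ, f (insert b S) * D f ((insert b S).erase b) := by
    intro S
    rw [sq]
    nth_rw 1 [D]
    rw [Finset.sum_mul]
    refine Finset.sum_congr rfl fun b hb => ?_
    rw [mem_compl] at hb
    rw [erase_insert hb]
  simp_rw [h1]
  rw [← sum_swap (fun A b => f A * D f (A.erase b))]
  refine Finset.sum_congr rfl fun A _ => Finset.sum_congr rfl fun b hb => ?_
  unfold D
  have h2 : (A.erase b)ᶜ = insert b Aᶜ := by
    ext x
    simp only [mem_compl, mem_erase, mem_insert]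
    tauto
  have h3 : b ∉ Aᶜ := by simp [hb]
  rw [h2, sum_insert h3, insert_erase hb, mul_add, ← sq, Finset.mul_sum]

theorem norm_eq (f : Finset α → ℝ) {k : ℕ} (hf : ∀ A : Finset α, A.card ≠ k → f A = 0) :
    ∑ T : Finset α, U f T ^ 2 = ∑ S : Finset α, D f S ^ 2 + ((Fintype.card α : ℝ) - 2 * k) * ∑ A : Finset α, f A ^ 2 := by
  rw [norm_U, norm_D, Finset.mul_sum, ← Finset.sum_add_distrib]
  refine Finset.sum_congr rfl fun A _ => ?_
  rw [Finset.sum_add_distrib, Finset.sum_add_distrib, Finset.sum_comm (s := Aᶜ) (t := A)]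
  by_cases hA : A.card = k
  · rw [Finset.sum_const, Finset.sum_const, hA, Finset.card_compl, hA, nsmul_eq_mul, nsmul_eq_mul]
    have h1 : k ≤ Fintype.card α := by rw [← hA]; exact Finset.card_le_univ A
    rw [Nat.cast_sub h1]
    ring
  · simp [hf A hA]

theorem eq_zero_of_U (f : Finset α → ℝ) {k : ℕ} (hk : 2 * k < Fintype.card α)
    (hf : ∀ A : Finset α, A.card ≠ k → f A = 0) (hU : ∀ T, U f T = 0) (A : Finset α) : f A = 0 := by
  have h1 := norm_eq f hf
  simp only [hU] at h1
  have h2 : (0 : ℝ) < (Fintype.card α : ℝ) - 2 * k := by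
    have : ((2 * k : ℕ) : ℝ) < (Fintype.card α : ℝ) := by exact_mod_cast hk
    push_cast at this
    linarith
  have h3 : 0 ≤ ∑ S : Finset α, D f S ^ 2 := Finset.sum_nonneg fun S _ => sq_nonneg _
  have h4 : 0 ≤ ∑ A : Finset α, f A ^ 2 := Finset.sum_nonneg fun S _ => sq_nonneg _
  have h5 : ∑ A : Finset α, f A ^ 2 = 0 := by
    simp only [ne_eq, OfNat.ofNat_ne_zero, not_false_eq_true, zero_pow, Finset.sum_const_zero] at h1
    nlinarith
  have h6 := (Finset.sum_eq_zero_iff_of_nonneg (fun S _ => sq_nonneg (f S))).1 h5 A (mem_univ A)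
  exact pow_eq_zero_iff (two_ne_zero) |>.1 h6

omit [Fintype α] in
theorem U_smul (f : Finset α → ℝ) (g : Equiv.Perm α) (hf : ∀ A : Finset α, f (g • A) = f A) (T : Finset α) :
    U f (g • T) = U f T := by
  unfold U
  have h1 : g • T = T.map g.toEmbedding := by
    ext x
    rw [Finset.mem_map, Finset.mem_smul_finset]
    rfl
  rw [h1, Finset.sum_map]
  refine Finset.sum_congr rfl fun a _ => ?_
  rw [← hf (T.erase a), ← h1]
  congr 1
  ext x
  simp only [mem_erase, Finset.mem_smul_finset]
  constructor
  · rintro ⟨h, y, hy, rfl⟩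
    exact ⟨y, ⟨fun hya => h (by rw [hya]; rfl), hy⟩, rfl⟩
  · rintro ⟨y, ⟨h, hy⟩, rfl⟩
    exact ⟨fun hya => h (g.injective hya), y, hy, rfl⟩

/-- extension of a function on orbits of `k`-sets -/
noncomputable def ext' (G : Subgroup (Equiv.Perm α)) (k : ℕ)
    (φ : orbitRel.Quotient G (Set.powersetCard α k) → ℝ) (A : Finset α) : ℝ :=
  if h : A.card = k then φ (Quotient.mk'' ⟨A, h⟩) else 0

omit [Fintype α] in
theorem ext'_smul (G : Subgroup (Equiv.Perm α)) (k : ℕ)
    (φ : orbitRel.Quotient G (Set.powersetCard α k) → ℝ) (g : G) (A : Finset α) :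
    ext' G k φ ((g : Equiv.Perm α) • A) = ext' G k φ A := by
  unfold ext'
  have hc : ((g : Equiv.Perm α) • A).card = A.card := Finset.card_smul_finset _ _
  by_cases h : A.card = k
  · rw [dif_pos h, dif_pos (hc.trans h)]
    congr 1
    apply Quotient.sound'
    exact ⟨g, rfl⟩
  · rw [dif_neg h, dif_neg (by rw [hc]; exact h)]

/-- **Livingstone–Wagner**: for `2 k < n` the number of orbits on `k`-sets is at most the number of
orbits on `(k+1)`-sets. -/
theorem lw_orbits (G : Subgroup (Equiv.Perm α)) {k : ℕ}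
    (hk : 2 * k < Fintype.card α) :
    Nat.card (MulAction.orbitRel.Quotient G (Set.powersetCard α k)) ≤
      Nat.card (MulAction.orbitRel.Quotient G (Set.powersetCard α (k + 1))) := by
  classical
  have hfin : ∀ m, Finite (Set.powersetCard α m) := fun m => inferInstance
  have : ∀ m, Fintype (orbitRel.Quotient G (Set.powersetCard α m)) := fun m => Fintype.ofFinite _
  let L : (orbitRel.Quotient G (Set.powersetCard α k) → ℝ) →ₗ[ℝ]
      (orbitRel.Quotient G (Set.powersetCard α (k + 1)) → ℝ) :=
    { toFun := fun φ q => U (ext' G k φ) (Quotient.out q).1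
      map_add' := by
        intro φ ψ
        ext q
        simp only [U, Pi.add_apply]
        rw [← Finset.sum_add_distrib]
        refine Finset.sum_congr rfl fun a _ => ?_
        unfold ext'
        split_ifs <;> simp
      map_smul' := by
        intro c φ
        ext q
        simp only [U, Pi.smul_apply, RingHom.id_apply, smul_eq_mul]
        rw [Finset.mul_sum]
        refine Finset.sum_congr rfl fun a _ => ?_
        unfold ext'
        split_ifs <;> simp }
  have hL : Function.Injective L := by
    rw [← LinearMap.ker_eq_bot, LinearMap.ker_eq_bot']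
    intro φ hφ
    have hU : ∀ T, U (ext' G k φ) T = 0 := by
      intro T
      by_cases hT : T.card = k + 1
      · let q : orbitRel.Quotient G (Set.powersetCard α (k + 1)) := Quotient.mk'' ⟨T, hT⟩
        have h1 : U (ext' G k φ) (Quotient.out q).1 = 0 := congrFun hφ q
        have h2 : Quotient.mk'' (Quotient.out q) = (Quotient.mk'' ⟨T, hT⟩ : orbitRel.Quotient G (Set.powersetCard α (k + 1))) :=
          Quotient.out_eq' q
        obtain ⟨g, hg⟩ := Quotient.exact' h2
        have h3 : (g : Equiv.Perm α) • T = (Quotient.out q).1 := congrArg Subtype.val hg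
        rw [← h3, U_smul _ _ (ext'_smul G k φ g)] at h1
        exact h1
      · unfold U
        refine Finset.sum_eq_zero fun a ha => ?_
        unfold ext'
        rw [dif_neg]
        rw [card_erase_of_mem ha]
        have : 0 < T.card := card_pos.2 ⟨a, ha⟩
        omega
    have h0 := eq_zero_of_U (ext' G k φ) hk (fun A hA => by unfold ext'; rw [dif_neg hA]) hU
    funext q
    induction q using Quotient.inductionOn' with
    | _ A =>
      have := h0 A.1
      unfold ext' at this
      have hA : (A : Finset α).card = k := A.2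
      rw [dif_pos hA] at this
      exact this
  have h1 := LinearMap.finrank_le_finrank_of_injective hL
  rw [Module.finrank_fintype_fun_eq_card, Module.finrank_fintype_fun_eq_card] at h1
  rw [Nat.card_eq_fintype_card, Nat.card_eq_fintype_card]
  exact h1

end Cfsg.Agent.H386.S3513LW

private theorem dce_751b5b7de03e : _root_.True := by
  try have : _root_.True := by simp only [_root_.Cfsg.Agent.H386.S3513LW.U.congr_simp]
  try have : _root_.True := by simp only [_root_.Cfsg.Agent.H386.S3513LW.U.eq_1]
  try have : _root_.True := by simp only [_root_.Cfsg.Agent.H386.S3513LW.D.eq_1]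
  try have : _root_.True := by simp only [_root_.Cfsg.Agent.H386.S3513LW.D.congr_simp]
  exact _root_.True.intro
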