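import Mathlib
import Cfsg.Agent.H118.SLTrans
import Cfsg.Agent.LieClassical.SLGen
import Cfsg.Agent.FastGrp
import Cfsg.Agent.Prune
set_option linter.all false
prune_inst 0x7f00000000000000000000000000000000000000000000000000000000000000000000000000000000000000000000000000000000000000000000000000000000000000000000000000000000000000003fffffffffffffffffffffffffffbeffbdffffffff
open scoped Cfsg.Agent.FastGrp

/-!
# Subgroups of `SL_n(q)` of index `(q^n - 1)/(q - 1)` (helper386)

Such a subgroup is the stabiliser of a point or of a hyperplane; in particular the action on its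
cosets is 2-transitive.
-/

set_option autoImplicit false

namespace Cfsg.Agent.H386.PslPts

open Matrix Cfsg.Agent.H118.SLTrans

/-- A subgroup of order a power of `r` has a conjugate in a subgroup of index prime to `r`. -/
theorem exists_conj_mem {G : Type*} [Group G] [Finite G] {r : ℕ} (hr : r.Prime) {E : Subgroup G}
    (hE : IsPGroup r E) (H : Subgroup G) (hH : ¬ r ∣ H.index) : ∃ g : G, ∀ x ∈ E, g⁻¹ * x * g ∈ H := by
  have : Fact r.Prime := ⟨hr⟩
  obtain ⟨a, ha⟩ := hE.nonempty_fixed_point_of_prime_not_dvd_card (G ⧸ H) (by rwa [Subgroup.index] at hH)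
  obtain ⟨g, rfl⟩ := QuotientGroup.mk_surjective a
  refine ⟨g, fun x hx => ?_⟩
  have h1 := ha ⟨x, hx⟩
  change ((x * g : G) : G ⧸ H) = (g : G ⧸ H) at h1
  rw [eq_comm, QuotientGroup.eq] at h1
  simpa only [mul_assoc] using h1

variable {ι F : Type*} [Field F] [DecidableEq ι] [Fintype ι]

local notation "SL" => SpecialLinearGroup ι F

theorem exists_form_of_NP {u u' : ι → F} (h : NP u u') : ∃ ψ : ι → F, ψ ⬝ᵥ u = 0 ∧ ψ ⬝ᵥ u' = 1 := by
  have h1 : NP (u + u') u' := by
    obtain ⟨i, j, hij⟩ := h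
    refine ⟨i, j, ?_⟩
    intro h2
    apply hij
    simp only [Pi.add_apply] at h2
    linear_combination h2
  obtain ⟨w, hw, hw'⟩ := h1.exists_eq_one
  refine ⟨w, ?_, by rw [dotProduct_comm]; exact hw'⟩
  rw [add_dotProduct, hw', add_eq_right] at hw
  rw [dotProduct_comm]; exact hw

/-- The vectors which are centres of full groups of transvections in `H`. -/
def Cen (H : Subgroup SL) : Submodule F (ι → F) where
  carrier := {w | ∀ φ : ι → F, φ ⬝ᵥ w = 0 → Tr w φ ∈ H}
  zero_mem' := fun φ _ => by rw [Tr_zero']; exact one_mem H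
  add_mem' := by
    intro w w' hw hw' φ hφ
    by_cases h : NP w w'
    · obtain ⟨ψ, h0, h1⟩ := exists_form_of_NP h
      have h2 : Tr w ψ ∈ H := hw ψ h0
      have h3 := conj_Tr_Tr (w := w) (ψ := ψ) (u := w') (φ := φ + (φ ⬝ᵥ w) • ψ) h0 (by
        rw [add_dotProduct, smul_dotProduct, h1, smul_eq_mul, mul_one]
        rw [dotProduct_add] at hφ
        linear_combination hφ)
      have h4 : (φ + (φ ⬝ᵥ w) • ψ) ⬝ᵥ w = φ ⬝ᵥ w := by
        rw [add_dotProduct, smul_dotProduct, h0, smul_zero, add_zero]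
      rw [h1, one_smul, h4, add_sub_cancel_right, add_comm w' w] at h3
      rw [← h3]
      refine mul_mem (mul_mem h2 (hw' _ ?_)) (inv_mem h2)
      rw [add_dotProduct, smul_dotProduct, h1, smul_eq_mul, mul_one]
      rw [dotProduct_add] at hφ
      linear_combination hφ
    · by_cases h0 : w = 0
      · subst h0
        rw [zero_add] at hφ ⊢
        exact hw' φ hφ
      · obtain ⟨s, rfl⟩ := not_NP h0 h
        have h1 : w + s • w = (1 + s) • w := by rw [add_smul, one_smul]
        rw [h1, Tr_smul]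
        apply hw
        rw [h1, dotProduct_smul] at hφ
        rw [smul_dotProduct]; exact hφ
  smul_mem' := by
    intro c w hw φ hφ
    rw [Tr_smul]
    apply hw
    rw [dotProduct_smul] at hφ
    rw [smul_dotProduct]; exact hφ

theorem vec_inv_mul (g : SL) (φ : ι → F) : (φ ᵥ* g.1) ᵥ* (g⁻¹).1 = φ := by
  rw [vecMul_vecMul, coe_mul_inv, vecMul_one]

/-- Conjugation of the group of transvections with a given centre. -/
theorem conj_mem_iff (g : SL) (w φ : ι → F) (h : φ ⬝ᵥ (g.1 *ᵥ w) = 0) :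
    Tr (g.1 *ᵥ w) φ = g * Tr w (φ ᵥ* g.1) * g⁻¹ := by
  rw [conj_Tr _ (by rw [← dotProduct_mulVec]; exact h), vec_inv_mul]

theorem smul_mem_Cen {H : Subgroup SL} {h : SL} (hh : h ∈ H) {w : ι → F} (hw : w ∈ Cen H) :
    h.1 *ᵥ w ∈ Cen H := by
  intro φ hφ
  rw [conj_mem_iff h w φ hφ]
  refine mul_mem (mul_mem hh (hw _ ?_)) (inv_mem hh)
  rw [← dotProduct_mulVec]; exact hφ

/-- The group of transvections with centre `w`. -/
def Ctr (w : ι → F) : Subgroup SL where
  carrier := {g | ∃ φ : ι → F, φ ⬝ᵥ w = 0 ∧ g = Tr w φ}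
  one_mem' := ⟨0, by rw [zero_dotProduct], (Tr_zero w).symm⟩
  mul_mem' := by
    rintro _ _ ⟨φ, h, rfl⟩ ⟨φ', h', rfl⟩
    exact ⟨φ + φ', by rw [add_dotProduct, h, h', add_zero], Tr_mul h h'⟩
  inv_mem' := by
    rintro _ ⟨φ, h, rfl⟩
    exact ⟨-φ, by rw [neg_dotProduct, h, neg_zero], (Tr_neg h).symm⟩

theorem Tr_pow {w φ : ι → F} (h : φ ⬝ᵥ w = 0) (n : ℕ) : (Tr w φ) ^ n = Tr w ((n : F) • φ) := by
  induction n with
  | zero => rw [pow_zero, Nat.cast_zero, zero_smul, Tr_zero]
  | succ n ih =>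
    rw [pow_succ, ih, Tr_mul (by rw [smul_dotProduct, h, smul_zero]) h, Nat.cast_succ, add_smul, one_smul]

theorem isPGroup_Ctr {r : ℕ} [CharP F r] (w : ι → F) : IsPGroup r (Ctr w) := by
  rintro ⟨_, φ, h, rfl⟩
  refine ⟨1, Subtype.ext ?_⟩
  rw [SubmonoidClass.coe_pow, pow_one]
  change (Tr w φ) ^ r = 1
  rw [Tr_pow h, CharP.cast_eq_zero, zero_smul, Tr_zero]

theorem Cen_ne_bot [Finite F] [Nonempty ι] {r : ℕ} (hr : r.Prime) [CharP F r] (H : Subgroup SL)
    (hH : ¬ r ∣ H.index) : Cen H ≠ ⊥ := by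
  have : Finite SL := inferInstance
  let w : ι → F := fun _ => 1
  obtain ⟨g, hg⟩ := exists_conj_mem hr (isPGroup_Ctr (r := r) w) H hH
  intro hb
  have h1 : (g⁻¹).1 *ᵥ w ∈ Cen H := by
    intro φ hφ
    rw [conj_mem_iff g⁻¹ w φ hφ, inv_inv]
    apply hg
    exact ⟨_, by rw [← dotProduct_mulVec]; exact hφ, rfl⟩
  rw [hb, Submodule.mem_bot] at h1
  have h2 : g.1 *ᵥ ((g⁻¹).1 *ᵥ w) = 0 := by rw [h1, mulVec_zero]
  rw [mulVec_mulVec, coe_mul_inv, one_mulVec] at h2
  have h3 := congrFun h2 (Classical.arbitrary ι)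
  exact one_ne_zero h3

theorem eq_top_of_Cen [Nontrivial ι] (H : Subgroup SL) (h : Cen H = ⊤) : H = ⊤ := by
  rw [eq_top_iff]
  intro g _
  refine LieClassical.SLGen.transvection_induction (fun g => g ∈ H) ?_ (fun A B hA hB => mul_mem hA hB) g
  intro i j hij c
  have h1 : (Pi.single i (1 : F) : ι → F) ∈ Cen H := by rw [h]; trivial
  have h0 : (Pi.single j c : ι → F) ⬝ᵥ (Pi.single i (1 : F) : ι → F) = 0 := by
    rw [dotProduct_single, Pi.single_eq_of_ne hij, zero_mul]
  have h2 := h1 (Pi.single j c) h0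
  have h3 : Tr (Pi.single i (1 : F) : ι → F) (Pi.single j c) = SpecialLinearGroup.transvection hij c := by
    apply slext
    rw [Tr_val h0]
    change _ = 1 + single i j c
    congr 1
    ext a b
    rw [vecMulVec_apply, single_apply]
    by_cases ha : i = a
    · subst ha
      by_cases hb : j = b
      · subst hb; simp
      · simp [hb]
    · simp [ha]
  rwa [h3] at h2


/-! ### Index of the stabiliser of a subspace -/

section graph

open Module

variable (C D : Submodule F (ι → F)) (hCD : IsCompl C D)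

/-- The endomorphism `c + d ↦ f c`. -/
noncomputable def nil (f : C →ₗ[F] D) : (ι → F) →ₗ[F] (ι → F) :=
  D.subtype ∘ₗ f ∘ₗ C.projectionOnto D hCD

omit [DecidableEq ι] [Fintype ι] in
theorem nil_apply_left (f : C →ₗ[F] D) (c : C) : nil C D hCD f c = f c := by
  unfold nil
  rw [LinearMap.comp_apply, LinearMap.comp_apply, Submodule.projectionOnto_apply_left]
  rfl

theorem nil_nil (f : C →ₗ[F] D) : LinearMap.toMatrix' (nil C D hCD f) * LinearMap.toMatrix' (nil C D hCD f) = 0 := by
  rw [← LinearMap.toMatrix'_comp]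
  have : nil C D hCD f ∘ₗ nil C D hCD f = 0 := by
    refine LinearMap.ext fun v => ?_
    unfold nil
    simp only [LinearMap.comp_apply, Submodule.subtype_apply]
    rw [Submodule.projectionOnto_apply_right]
    simp
  rw [this, map_zero]

theorem one_add_pow {R : Type*} [Ring R] {N : R} (h : N * N = 0) (n : ℕ) : (1 + N) ^ n = 1 + n * N := by
  induction n with
  | zero => simp
  | succ n ih =>
    rw [pow_succ, ih, Nat.cast_succ]
    have h1 : (n : R) * N * N = 0 := by rw [mul_assoc, h, mul_zero]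
    rw [add_mul, mul_add, mul_add, h1]
    simp only [one_mul, mul_one, add_zero, add_mul]
    abel

theorem det_nil {r : ℕ} [hr : Fact r.Prime] [CharP F r] (f : C →ₗ[F] D) :
    (1 + LinearMap.toMatrix' (nil C D hCD f)).det = 1 := by
  have h1 := one_add_pow (nil_nil C D hCD f) r
  have h2 : ((r : ℕ) : Matrix ι ι F) = 0 := by
    rw [← map_natCast (algebraMap F (Matrix ι ι F)), CharP.cast_eq_zero, map_zero]
  rw [h2, zero_mul, add_zero] at h1
  have h3 := congrArg Matrix.det h1
  rw [det_pow, det_one] at h3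
  have h4 : frobenius F r (1 + LinearMap.toMatrix' (nil C D hCD f)).det = frobenius F r 1 := by
    rw [frobenius_def, h3, map_one]
  exact frobenius_inj F r h4

/-- The element `c + d ↦ c + f c + d`. -/
noncomputable def gel {r : ℕ} [hr : Fact r.Prime] [CharP F r] (f : C →ₗ[F] D) : SL :=
  ⟨1 + LinearMap.toMatrix' (nil C D hCD f), det_nil (r := r) C D hCD f⟩

theorem gel_apply {r : ℕ} [hr : Fact r.Prime] [CharP F r] (f : C →ₗ[F] D) (c : C) :
    (gel (r := r) C D hCD f).1 *ᵥ (c : ι → F) = c + f c := by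
  change (1 + LinearMap.toMatrix' (nil C D hCD f)) *ᵥ (c : ι → F) = _
  rw [add_mulVec, one_mulVec, LinearMap.toMatrix'_mulVec, nil_apply_left]

theorem gel_injective {r : ℕ} [hr : Fact r.Prime] [CharP F r] (H : Subgroup SL)
    (hH : ∀ h ∈ H, ∀ c ∈ C, h.1 *ᵥ c ∈ C) :
    Function.Injective fun f : C →ₗ[F] D => (gel (r := r) C D hCD f : SL ⧸ H) := by
  intro f f' hff
  have h1 : (gel (r := r) C D hCD f)⁻¹ * gel (r := r) C D hCD f' ∈ H := QuotientGroup.eq.1 hff
  ext1 c
  have h2 := hH _ h1 c c.2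
  rw [mulv, ← mulVec_mulVec, gel_apply] at h2
  set c' : C := ⟨_, h2⟩ with hc'
  have h3 : (gel (r := r) C D hCD f).1 *ᵥ (c' : ι → F) = (c : ι → F) + f' c := by
    rw [hc', mulVec_mulVec, coe_mul_inv, one_mulVec]
  rw [gel_apply] at h3
  -- compare components
  have h4 : ((c' : ι → F) - c) = (f' c : ι → F) - f c' := by
    rw [sub_eq_sub_iff_add_eq_add, h3, add_comm]
  have h5 : ((c' : ι → F) - c) ∈ C ⊓ D := by
    refine ⟨sub_mem c'.2 c.2, ?_⟩
    rw [h4]
    exact sub_mem (f' c).2 (f c').2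
  rw [hCD.inf_eq_bot, Submodule.mem_bot, sub_eq_zero] at h5
  have h6 : c' = c := Subtype.ext h5
  rw [h6, add_right_inj] at h3
  exact Subtype.ext h3

theorem pow_le_index [Finite F] {r : ℕ} [hr : Fact r.Prime] [CharP F r] (C : Submodule F (ι → F)) (H : Subgroup SL)
    (hH : ∀ h ∈ H, ∀ c ∈ C, h.1 *ᵥ c ∈ C) :
    Nat.card F ^ (finrank F C * (Fintype.card ι - finrank F C)) ≤ H.index := by
  obtain ⟨D, hCD⟩ := Submodule.exists_isCompl C
  have h1 := Nat.card_le_card_of_injective _ (gel_injective (r := r) C D hCD H hH)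
  have h2 : finrank F D = Fintype.card ι - finrank F C := by
    have := Submodule.finrank_add_eq_of_isCompl hCD
    rw [finrank_fintype_fun_eq_card] at this
    omega
  rw [Module.natCard_eq_pow_finrank (K := F) (V := C →ₗ[F] D), finrank_linearMap, h2] at h1
  exact h1

end graph

/-! ### Two double cosets -/

/-- `G = H ∪ H x H`. -/
def R2 {G : Type*} [Group G] (H : Subgroup G) : Prop := ∀ x ∉ H, ∀ y ∉ H, ∃ a ∈ H, ∃ b ∈ H, y = a * x * b

theorem R2.of_map {G G' : Type*} [Group G] [Group G'] (e : G ≃* G') {H : Subgroup G}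
    (h : R2 (H.map e.toMonoidHom)) : R2 H := by
  intro x hx y hy
  have key : ∀ z, z ∉ H → e z ∉ H.map e.toMonoidHom := by
    rintro z hz ⟨w, hw, hwz⟩
    exact hz (e.injective hwz ▸ hw)
  obtain ⟨_, ⟨a, ha, rfl⟩, _, ⟨b, hb, rfl⟩, hab⟩ := h (e x) (key x hx) (e y) (key y hy)
  refine ⟨a, ha, b, hb, e.injective ?_⟩
  rw [hab, map_mul, map_mul]; rfl

theorem R2.of_comap {G G' : Type*} [Group G] [Group G'] (e : G →* G') (he : Function.Surjective e) {H : Subgroup G'}
    (h : R2 (H.comap e)) : R2 H := by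
  intro x hx y hy
  obtain ⟨x, rfl⟩ := he x
  obtain ⟨y, rfl⟩ := he y
  obtain ⟨a, ha, b, hb, hab⟩ := h x hx y hy
  exact ⟨e a, ha, e b, hb, by rw [hab, map_mul, map_mul]⟩

open MulAction in
theorem R2.two {G Ω : Type*} [Group G] [MulAction G Ω] [IsPretransitive G Ω] (a : Ω)
    (h : R2 (stabilizer G a)) : IsMultiplyPretransitive G Ω 2 := by
  rw [is_two_pretransitive_iff]
  intro x y x' y' hxy hxy'
  obtain ⟨s, rfl⟩ := exists_smul_eq G a x
  obtain ⟨s', rfl⟩ := exists_smul_eq G a x'
  obtain ⟨t, ht⟩ := exists_smul_eq G a (s⁻¹ • y)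
  obtain ⟨t', ht'⟩ := exists_smul_eq G a (s'⁻¹ • y')
  have h1 : t ∉ stabilizer G a := by
    intro h1
    rw [mem_stabilizer_iff, ht] at h1
    exact hxy (by rw [← h1, smul_inv_smul])
  have h2 : t' ∉ stabilizer G a := by
    intro h1
    rw [mem_stabilizer_iff, ht'] at h1
    exact hxy' (by rw [← h1, smul_inv_smul])
  obtain ⟨c, hc, d, hd, hcd⟩ := h t h1 t' h2
  rw [mem_stabilizer_iff] at hc hd
  refine ⟨s' * c * s⁻¹, ?_, ?_⟩
  · rw [mul_smul, mul_smul, inv_smul_smul, hc]
  · have h3 : y = s • t • a := by rw [ht, smul_inv_smul]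
    have h4 : y' = s' • t' • a := by rw [ht', smul_inv_smul]
    have h5 : t' * d⁻¹ = c * t := by rw [hcd]; group
    have h6 : t' • a = (c * t) • a := by
      rw [← h5, mul_smul, inv_smul_eq_iff.2 hd.symm]
    rw [h3, h4, h6]
    simp only [mul_smul, inv_smul_smul]

/-! ### Stabilisers of points -/

section point

open LinearAlgebra.Projectivization MulAction

theorem R2_of_line [Finite F] [Nonempty ι] (H : Subgroup SL) {w : ι → F} (hw : w ≠ 0)
    (hH : ∀ h ∈ H, ∃ c : F, h.1 *ᵥ w = c • w)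
    (hidx : H.index * (Nat.card F - 1) = Nat.card F ^ Fintype.card ι - 1) : R2 H := by
  let D : ℙ F (ι → F) := Projectivization.mk F w hw
  have hsm : ∀ g : SL, g • w = g.1 *ᵥ w := fun g => rfl
  have h1 : H ≤ stabilizer SL D := by
    intro h hh
    obtain ⟨c, hc⟩ := hH h hh
    rw [mem_stabilizer_iff, Projectivization.smul_mk, Projectivization.mk_eq_mk_iff']
    exact ⟨c, by rw [hsm, hc]⟩
  have hq : 1 < Nat.card F := Finite.one_lt_card
  have h2 : (stabilizer SL D).index = H.index := by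
    rw [index_stabilizer_of_transitive]
    have h3 := Projectivization.card F (ι → F)
    rw [Nat.card_fun, Nat.card_eq_fintype_card (α := ι), ← hidx] at h3
    exact (Nat.eq_of_mul_eq_mul_right (by omega) h3).symm
  have hfin : Finite SL := inferInstance
  have h3 : H = stabilizer SL D := by
    refine le_antisymm h1 ?_
    have h4 := Subgroup.relIndex_mul_index h1
    rw [h2] at h4
    have h5 : 0 < H.index := Nat.pos_of_ne_zero Subgroup.index_ne_zero_of_finite
    have h6 : H.relIndex (stabilizer SL D) = 1 := Nat.eq_of_mul_eq_mul_right h5 (by rw [h4, one_mul])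
    exact Subgroup.relIndex_eq_one.1 h6
  rw [h3]
  intro x hx y hy
  rw [mem_stabilizer_iff] at hx hy
  have h2t : IsMultiplyPretransitive SL (ℙ F (ι → F)) 2 := inferInstance
  rw [is_two_pretransitive_iff] at h2t
  obtain ⟨g, hg1, hg2⟩ := h2t (a := D) (b := x • D) (c := D) (d := y • D) (Ne.symm hx) (Ne.symm hy)
  refine ⟨g, hg1, (y⁻¹ * g * x)⁻¹, inv_mem ?_, by group⟩
  rw [mem_stabilizer_iff, mul_smul, mul_smul, hg2, inv_smul_smul]

end point

/-! ### Main theorem -/

theorem transpose_mul' (g h : SL) : (g * h).transpose = h.transpose * g.transpose := by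
  apply slext
  exact Matrix.transpose_mul _ _

theorem transpose_inv (g : SL) : (g⁻¹).transpose = (g.transpose)⁻¹ := by
  rw [eq_inv_iff_mul_eq_one, ← transpose_mul', mul_inv_cancel]
  apply slext
  exact Matrix.transpose_one

/-- The inverse transpose. -/
def invT : SL ≃* SL where
  toFun g := (g⁻¹).transpose
  invFun g := (g⁻¹).transpose
  left_inv g := by
    dsimp only
    rw [transpose_inv, transpose_inv, transpose_inv, inv_inv]
    apply slext
    exact Matrix.transpose_transpose _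
  right_inv g := by
    dsimp only
    rw [transpose_inv, transpose_inv, transpose_inv, inv_inv]
    apply slext
    exact Matrix.transpose_transpose _
  map_mul' g h := by
    rw [_root_.mul_inv_rev, transpose_mul']

theorem arith {q n m N : ℕ} (hq : 2 ≤ q) (hm : 1 ≤ m) (hmn : m < n) (h1 : q ^ (m * (n - m)) ≤ N)
    (h2 : N * (q - 1) = q ^ n - 1) : m = 1 ∨ m = n - 1 := by
  by_contra hcon
  push Not at hcon
  obtain ⟨a, rfl⟩ : ∃ a, m = a + 2 := ⟨m - 2, by omega⟩
  obtain ⟨b, hb⟩ : ∃ b, n - (a + 2) = b + 2 := ⟨n - (a + 2) - 2, by omega⟩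
  have h3 : n ≤ (a + 2) * (n - (a + 2)) := by
    rw [hb]
    have : n = a + b + 4 := by omega
    rw [this]
    linarith only [Nat.zero_le (a * b)]
  have h4 : q ^ n ≤ N := (Nat.pow_le_pow_right (by omega) h3).trans h1
  have h5 : N ≤ N * (q - 1) := Nat.le_mul_of_pos_right _ (by omega)
  have h6 : 0 < q ^ n := pow_pos (by omega) _
  omega

open Module in
theorem main [Fintype F] (hn : 2 ≤ Fintype.card ι) (H : Subgroup SL)
    (hidx : H.index * (Fintype.card F - 1) = Fintype.card F ^ Fintype.card ι - 1) : R2 H := by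
  have : Nontrivial ι := Fintype.one_lt_card_iff_nontrivial.1 (by omega)
  have hq : 1 < Fintype.card F := Fintype.one_lt_card
  have hfin : Finite SL := inferInstance
  obtain ⟨r, hchar⟩ := CharP.exists F
  obtain ⟨a, hr, ha⟩ := FiniteField.card F r
  have hfr : Fact r.Prime := ⟨hr⟩
  have hpow : 0 < Fintype.card F ^ Fintype.card ι := pow_pos (by omega) _
  have hri : ¬ r ∣ H.index := by
    intro h
    have h1 : r ∣ Fintype.card F ^ Fintype.card ι - 1 := by
      rw [← hidx]; exact h.mul_right _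
    have h2 : r ∣ Fintype.card F ^ Fintype.card ι := by
      rw [ha]
      exact dvd_pow (dvd_pow_self r a.pos.ne') (by omega)
    have h3 := (Nat.dvd_sub h2 h1)
    have h4 : Fintype.card F ^ Fintype.card ι - (Fintype.card F ^ Fintype.card ι - 1) = 1 := by omega
    rw [h4] at h3
    exact hr.one_lt.ne' (Nat.dvd_one.1 h3)
  have hbot := Cen_ne_bot hr H hri
  have htop : Cen H ≠ ⊤ := by
    intro h
    have h1 := eq_top_of_Cen H h
    rw [h1, Subgroup.index_top, one_mul] at hidx
    have h2 : Fintype.card F ^ 2 ≤ Fintype.card F ^ Fintype.card ι := Nat.pow_le_pow_right (by omega) hn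
    have h3 : Fintype.card F < Fintype.card F ^ 2 := by nlinarith only [hq]
    omega
  have hst : ∀ h ∈ H, ∀ c ∈ Cen H, h.1 *ᵥ c ∈ Cen H := fun h hh c hc => smul_mem_Cen hh hc
  have h1 := pow_le_index (r := r) (Cen H) H hst
  have hm1 : 1 ≤ finrank F (Cen H) := by
    rw [Nat.one_le_iff_ne_zero]
    intro h
    exact hbot (Submodule.finrank_eq_zero.1 h)
  have hmn : finrank F (Cen H) < Fintype.card ι := by
    have := Submodule.finrank_lt htop
    rwa [finrank_fintype_fun_eq_card] at this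
  rw [Nat.card_eq_fintype_card] at h1
  have hidx' : H.index * (Nat.card F - 1) = Nat.card F ^ Fintype.card ι - 1 := by
    rw [Nat.card_eq_fintype_card]; exact hidx
  rcases arith hq hm1 hmn h1 hidx with h | h
  · -- a point
    obtain ⟨w, hw0, hw⟩ := finrank_eq_one_iff'.1 h
    refine R2_of_line H (w := w) (fun h0 => hw0 (Subtype.ext h0)) (fun g hg => ?_) hidx'
    obtain ⟨c, hc⟩ := hw ⟨_, hst g hg w w.2⟩
    exact ⟨c, (congrArg Subtype.val hc).symm⟩
  · -- a hyperplane
    obtain ⟨f, hf0, hf⟩ := Submodule.exists_le_ker_of_lt_top (Cen H) (lt_top_iff_ne_top.2 htop)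
    obtain ⟨v₀, hv₀⟩ : ∃ v, f v ≠ 0 := by
      by_contra hcon
      push Not at hcon
      exact hf0 (LinearMap.ext hcon)
    have hker : LinearMap.ker f = Cen H := by
      refine (Submodule.eq_of_le_of_finrank_le hf ?_).symm
      have h2 : LinearMap.ker f < ⊤ := by
        rw [lt_top_iff_ne_top]
        intro h3
        exact hf0 (LinearMap.ker_eq_top.1 h3)
      have h3 := Submodule.finrank_lt h2.ne
      rw [finrank_fintype_fun_eq_card] at h3
      omega
    let ψ : ι → F := fun i => f (Pi.single i 1)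
    have hψ : ∀ v, ψ ⬝ᵥ v = f v := by
      intro v
      conv_rhs => rw [← Finset.univ_sum_single v, map_sum]
      refine Finset.sum_congr rfl fun i _ => ?_
      have : (Pi.single i (v i) : ι → F) = v i • (Pi.single i 1 : ι → F) := by
        rw [← Pi.single_smul, smul_eq_mul, mul_one]
      rw [this, map_smul, smul_eq_mul, mul_comm]
    have hψ0 : ψ ≠ 0 := by
      intro h2
      apply hv₀
      rw [← hψ, h2, zero_dotProduct]
    apply R2.of_map invT
    refine R2_of_line _ hψ0 ?_ ?_
    · rintro _ ⟨g, hg, rfl⟩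
      change ∃ c : F, (g⁻¹).1.transpose *ᵥ ψ = c • ψ
      refine ⟨(((g⁻¹).1.transpose *ᵥ ψ) ⬝ᵥ v₀) / f v₀, ?_⟩
      have key : ∀ c ∈ Cen H, ((g⁻¹).1.transpose *ᵥ ψ) ⬝ᵥ c = 0 := by
        intro c hc
        rw [mulVec_transpose, ← dotProduct_mulVec, hψ]
        exact hf (hst _ (inv_mem hg) c hc)
      ext i
      have h2 : (Pi.single i 1 : ι → F) - (f (Pi.single i 1) / f v₀) • v₀ ∈ Cen H := by
        rw [← hker, LinearMap.mem_ker, map_sub, map_smul, smul_eq_mul, div_mul_cancel₀ _ hv₀, sub_self]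
      have h3 := key _ h2
      rw [dotProduct_sub, dotProduct_smul, dotProduct_single, mul_one, sub_eq_zero] at h3
      rw [h3, Pi.smul_apply, smul_eq_mul, smul_eq_mul]
      change _ = _ * f (Pi.single i 1)
      ring
    · rw [← hidx', MulEquiv.toMonoidHom_eq_coe]
      congr 1
      exact Subgroup.index_map_equiv H invT

open MulAction in
/-- A transitive action of `PSL_n(q)` of degree `(q^n - 1)/(q - 1)` is 2-transitive. -/
theorem psl_two {n : ℕ} {F : Type*} [Field F] [Fintype F] (hn : 2 ≤ n) {G Ω : Type*} [Group G] [MulAction G Ω]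
    [Finite Ω] [IsPretransitive G Ω] (e : G ≃* ProjectiveSpecialLinearGroup (Fin n) F)
    (hΩ : Nat.card Ω * (Fintype.card F - 1) = Fintype.card F ^ n - 1) :
    IsMultiplyPretransitive G Ω 2 := by
  have hq : 1 < Fintype.card F := Fintype.one_lt_card
  have hne : Nonempty Ω := by
    by_contra h
    rw [not_nonempty_iff] at h
    rw [Nat.card_of_isEmpty, zero_mul] at hΩ
    have h1 := Nat.pow_le_pow_right (show 0 < Fintype.card F by omega) hn
    have h2 : 4 ≤ Fintype.card F ^ 2 := by nlinarith only [hq]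
    omega
  obtain ⟨a⟩ := hne
  apply R2.two a
  apply R2.of_map e
  let π : _root_.Matrix.SpecialLinearGroup (Fin n) F →* ProjectiveSpecialLinearGroup (Fin n) F := QuotientGroup.mk' _
  apply R2.of_comap π (QuotientGroup.mk'_surjective _)
  apply main (by simpa only [_root_.Fintype.card_fin] using hn)
  rw [Subgroup.index_comap_of_surjective _ (QuotientGroup.mk'_surjective _), Fintype.card_fin, ← hΩ]
  congr 1
  rw [← index_stabilizer_of_transitive G a]
  exact Subgroup.index_map_equiv _ e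

end Cfsg.Agent.H386.PslPts
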